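import Groth.Agent.DerPlus.Adjoint
import Groth.Agent.EtBCBridge.Derived
import Groth.Prelude.Def_SixF1
import Mathlib

/-!
Base change maps between bounded below derived functors, on complexes of injectives.
-/

set_option autoImplicit false
set_option backward.isDefEq.respectTransparency false
set_option backward.isDefEq.respectTransparency.types false
set_option linter.style.haveILetI false
set_option linter.unusedSectionVars false
set_option maxHeartbeats 1000000

universe v₁ v₂ v₃ v₄ u₁ u₂ u₃ u₄

open CategoryTheory CategoryTheory.Limits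

attribute [local instance] HasDerivedCategory.standard

noncomputable section

namespace Groth.Agent.DerPlusBC

section ExactAdj

variable {E : Type u₁} [Category.{v₁} E] [Abelian E] [EnoughInjectives E]
  {C : Type u₂} [Category.{v₂} C] [Abelian C] [EnoughInjectives C]
  (L : E ⥤ C) [L.Additive] [PreservesFiniteLimits L] [PreservesFiniteColimits L]

/-- an exact functor commutes with localisation -/
def fac : DerivedCategory.Plus.Qh ⋙ L.rightDerivedFunctorPlus ≅ L.mapHomotopyCategoryPlus ⋙ DerivedCategory.Plus.Qh :=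
  haveI := DerPlus.isIso_unit_of_exact L
  (asIso L.rightDerivedFunctorPlusUnit).symm

variable {L} {R : C ⥤ E} [R.Additive] (adjL : L ⊣ R)

/-- an adjunction compatible with the units -/
theorem exists_adj : ∃ adj : L.rightDerivedFunctorPlus ⊣ R.rightDerivedFunctorPlus, ∀ M : HomotopyCategory.Plus C,
    L.rightDerivedFunctorPlus.map (R.rightDerivedFunctorPlusUnit.app M) ≫
        adj.counit.app (DerivedCategory.Plus.Qh.obj M) =
      (fac L).hom.app (R.mapHomotopyCategoryPlus.obj M) ≫
        DerivedCategory.Plus.Qh.map ((DerPlus.plusAdj adjL).counit.app M) := by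
  let W₁ := HomotopyCategory.Plus.quasiIso E
  let W₂ := HomotopyCategory.Plus.quasiIso C
  let G := L.mapHomotopyCategoryPlus
  let L₁ : HomotopyCategory.Plus E ⥤ DerivedCategory.Plus E := DerivedCategory.Plus.Qh
  let L₂ : HomotopyCategory.Plus C ⥤ DerivedCategory.Plus C := DerivedCategory.Plus.Qh
  let G' := L.rightDerivedFunctorPlus
  let F' := R.rightDerivedFunctorPlus
  let α : L₁ ⋙ G' ≅ G ⋙ L₂ := fac L
  let β : R.mapHomotopyCategoryPlus ⋙ L₁ ⟶ L₂ ⋙ F' := R.rightDerivedFunctorPlusUnit
  have hG : W₁.IsInvertedBy (G ⋙ L₂) := fun A B f hf => by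
    have := Localization.inverts L₁ W₁ f hf
    rw [← NatIso.naturality_1 α f]
    dsimp
    infer_instance
  haveI : G'.IsLeftDerivedFunctor α.hom W₁ :=
    (Functor.isLeftDerivedFunctor_iff_of_inverts G' α.hom hG).2 inferInstance
  haveI : (G' ⋙ F').IsLeftDerivedFunctor
      ((Functor.associator _ _ _).inv ≫ Functor.whiskerRight α.hom F') W₁ := by
    refine (Functor.isLeftDerivedFunctor_iff_of_inverts _ _ ?_).2 inferInstance
    intro A B f hf
    have : IsIso ((G ⋙ L₂).map f) := hG f hf
    exact inferInstanceAs (IsIso (F'.map ((G ⋙ L₂).map f)))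
  haveI : (F' ⋙ G').IsRightDerivedFunctor
      (Functor.whiskerRight β G' ≫ (Functor.associator _ _ _).hom) W₂ :=
    (DerPlus.isDeforming_plus (R.mapHomotopyCategoryPlus ⋙ L₁)).isRightDerivedFunctor_comp W₂ F' β G'
  exact ⟨(DerPlus.plusAdj adjL).derived W₁ W₂ α.hom β,
    fun M => Adjunction.derivedε_fac_app _ W₂ α.hom β M⟩

end ExactAdj

section Square

variable {A : Type u₁} [Category.{v₁} A] [Abelian A] [EnoughInjectives A]
  {B : Type u₂} [Category.{v₂} B] [Abelian B] [EnoughInjectives B]
  {C : Type u₃} [Category.{v₃} C] [Abelian C] [EnoughInjectives C]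
  {E : Type u₄} [Category.{v₄} E] [Abelian E] [EnoughInjectives E]
  {F : A ⥤ B} [F.Additive] [PreservesFiniteLimits F] [PreservesFiniteColimits F]
  {P : B ⥤ C} [P.Additive]
  {L : E ⥤ C} [L.Additive] [PreservesFiniteLimits L] [PreservesFiniteColimits L]
  {R : C ⥤ E} [R.Additive] (adjL : L ⊣ R)
  {H : A ⥤ E} [H.Additive] (θ : H ⟶ F ⋙ P ⋙ R)

/-- the degree zero base change map -/
def bc0 : H ⋙ L ⟶ F ⋙ P where
  app X := (adjL.homEquiv _ _).symm (θ.app X)
  naturality X Y f := by
    simp only [Functor.comp_map]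
    rw [← Adjunction.homEquiv_naturality_left_symm, ← Adjunction.homEquiv_naturality_right_symm, θ.naturality]
    rfl

/-- the base change map on complexes -/
def bcG {I : CochainComplex A ℤ} {J : CochainComplex B ℤ}
    (s : (F.mapHomologicalComplex (ComplexShape.up ℤ)).obj I ⟶ J) :
    (L.mapHomologicalComplex (ComplexShape.up ℤ)).obj ((H.mapHomologicalComplex (ComplexShape.up ℤ)).obj I) ⟶
      (P.mapHomologicalComplex (ComplexShape.up ℤ)).obj J where
  f n := (bc0 adjL θ).app (I.X n) ≫ P.map (s.f n)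
  comm' i j hij := by
    have h := (bc0 adjL θ).naturality (I.d i j)
    simp only [Functor.comp_map] at h
    simp only [Functor.mapHomologicalComplex_obj_d, Category.assoc, ← Functor.map_comp]
    rw [reassoc_of% h, ← Functor.map_comp]
    exact congrArg (fun z => _ ≫ P.map z) (s.comm i j)

theorem bcAdj_rep (K : HomotopyCategory.Plus A) :
    H.rightDerivedFunctorPlusUnit.app K ≫ (EtSix.rPlusDesc₃ θ).app (DerivedCategory.Plus.Qh.obj K) ≫
        R.rightDerivedFunctorPlus.map (P.rightDerivedFunctorPlus.map ((fac F).hom.app K)) =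
      DerivedCategory.Plus.Qh.map ((EtSix.plusNatTrans θ).app K ≫
          (Functor.mapHomotopyCategoryPlusCompIso (Iso.refl (F ⋙ (P ⋙ R)))).inv.app K ≫
          (Functor.mapHomotopyCategoryPlusCompIso (Iso.refl (P ⋙ R))).inv.app (F.mapHomotopyCategoryPlus.obj K)) ≫
        R.rightDerivedFunctorPlusUnit.app (P.mapHomotopyCategoryPlus.obj (F.mapHomotopyCategoryPlus.obj K)) ≫
        R.rightDerivedFunctorPlus.map (P.rightDerivedFunctorPlusUnit.app (F.mapHomotopyCategoryPlus.obj K)) := by
  have h1 := Functor.rightDerived_fac_app H.rightDerivedFunctorPlus H.rightDerivedFunctorPlusUnit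
    (HomotopyCategory.Plus.quasiIso A)
    (F.rightDerivedFunctorPlus ⋙ P.rightDerivedFunctorPlus ⋙ R.rightDerivedFunctorPlus) (EtSix.rPlusUnit₃ θ) K
  haveI := DerPlus.isIso_unit_of_exact F
  refine (Category.assoc _ _ _).symm.trans ((congrArg (· ≫ _) h1).trans ?_)
  simp [EtSix.rPlusUnit₃, fac, ← Functor.map_comp]
  simp only [Functor.map_comp, Category.assoc, IsIso.hom_inv_id, Category.comp_id]

theorem counit_pp {I : CochainComplex.Plus A} {J : CochainComplex.Plus B}
    (s : (F.mapHomologicalComplex (ComplexShape.up ℤ)).obj I.obj ⟶ J.obj) :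
    (HomotopyCategory.Plus.ι C).map (L.mapHomotopyCategoryPlus.map
        ((EtSix.plusNatTrans θ).app ((HomotopyCategory.Plus.quotient A).obj I) ≫
          (Functor.mapHomotopyCategoryPlusCompIso (Iso.refl (F ⋙ (P ⋙ R)))).inv.app _ ≫
          (Functor.mapHomotopyCategoryPlusCompIso (Iso.refl (P ⋙ R))).inv.app _) ≫
      (DerPlus.plusAdj adjL).counit.app _ ≫
        P.mapHomotopyCategoryPlus.map (ObjectProperty.homMk ((HomotopyCategory.quotient B (ComplexShape.up ℤ)).map s) :
          F.mapHomotopyCategoryPlus.obj ((HomotopyCategory.Plus.quotient A).obj I) ⟶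
            (HomotopyCategory.Plus.quotient B).obj J)) =
      (HomotopyCategory.quotient C (ComplexShape.up ℤ)).map (bcG adjL θ s) := by
  let φ : (H.mapHomologicalComplex (ComplexShape.up ℤ)).obj I.obj ⟶
      (R.mapHomologicalComplex (ComplexShape.up ℤ)).obj ((P.mapHomologicalComplex
        (ComplexShape.up ℤ)).obj ((F.mapHomologicalComplex (ComplexShape.up ℤ)).obj I.obj)) :=
    (NatTrans.mapHomologicalComplex θ (ComplexShape.up ℤ)).app I.obj
  have e : (L.mapHomologicalComplex (ComplexShape.up ℤ)).map φ ≫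
      (KInj.mapHomologicalComplexAdj adjL (ComplexShape.up ℤ)).counit.app _ ≫
      (P.mapHomologicalComplex (ComplexShape.up ℤ)).map s = bcG adjL θ s := by
    refine HomologicalComplex.hom_ext _ _ fun n => ?_
    show L.map (θ.app (I.obj.X n)) ≫ adjL.counit.app _ ≫ P.map (s.f n) =
      (adjL.homEquiv _ _).symm (θ.app (I.obj.X n)) ≫ P.map (s.f n)
    rw [Adjunction.homEquiv_counit, Category.assoc]
  rw [← e, Functor.map_comp (HomotopyCategory.Plus.ι C), Functor.map_comp (HomotopyCategory.Plus.ι C)]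
  rw [(HomotopyCategory.quotient C (ComplexShape.up ℤ)).map_comp, (HomotopyCategory.quotient C (ComplexShape.up ℤ)).map_comp]
  refine congrArg₂ (· ≫ ·) ?_ rfl
  refine Eq.trans (b := (L.mapHomotopyCategory (ComplexShape.up ℤ)).map
    ((HomotopyCategory.quotient E (ComplexShape.up ℤ)).map φ)) ?_ rfl
  refine congrArg (L.mapHomotopyCategory (ComplexShape.up ℤ)).map (?_ : (HomotopyCategory.Plus.ι E).map
    ((EtSix.plusNatTrans θ).app ((HomotopyCategory.Plus.quotient A).obj I) ≫
      (Functor.mapHomotopyCategoryPlusCompIso (Iso.refl (F ⋙ (P ⋙ R)))).inv.app _ ≫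
      (Functor.mapHomotopyCategoryPlusCompIso (Iso.refl (P ⋙ R))).inv.app _) = _)
  show (HomotopyCategory.quotient E (ComplexShape.up ℤ)).map φ ≫
      (HomotopyCategory.quotient E (ComplexShape.up ℤ)).map ((Functor.mapHomologicalComplexCompIso
        (Iso.refl (F ⋙ P ⋙ R)) (ComplexShape.up ℤ)).inv.app I.obj) ≫
      (HomotopyCategory.quotient E (ComplexShape.up ℤ)).map ((Functor.mapHomologicalComplexCompIso
        (Iso.refl (P ⋙ R)) (ComplexShape.up ℤ)).inv.app
          ((F.mapHomologicalComplex (ComplexShape.up ℤ)).obj I.obj)) = _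
  rw [← Functor.map_comp, ← Functor.map_comp]
  refine congrArg (HomotopyCategory.quotient E (ComplexShape.up ℤ)).map (HomologicalComplex.hom_ext _ _ fun n => ?_)
  simp [φ, Functor.mapHomologicalComplexCompIso]
  try exact (congrArg (_ ≫ ·) (Category.id_comp _)).trans (Category.comp_id _)
  try rfl

/-- changing the adjunction -/
theorem change (adj adj₀ : L.rightDerivedFunctorPlus ⊣ R.rightDerivedFunctorPlus) (K : DerivedCategory.Plus A) :
    (adj.homEquiv _ _).symm ((EtSix.rPlusDesc₃ θ).app K) =
      (adj.leftAdjointUniq adj₀).hom.app _ ≫ (adj₀.homEquiv _ _).symm ((EtSix.rPlusDesc₃ θ).app K) := by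
  rw [Equiv.symm_apply_eq, Adjunction.homEquiv_naturality_right,
    Adjunction.homEquiv_leftAdjointUniq_hom_app, ← Adjunction.homEquiv_unit, Equiv.apply_symm_apply]

theorem congr_obj (adj : L.rightDerivedFunctorPlus ⊣ R.rightDerivedFunctorPlus) {K K' : DerivedCategory.Plus A}
    (e : K ≅ K') : IsIso ((adj.homEquiv _ _).symm ((EtSix.rPlusDesc₃ θ).app K)) ↔
      IsIso ((adj.homEquiv _ _).symm ((EtSix.rPlusDesc₃ θ).app K')) :=
  (MorphismProperty.isomorphisms _).arrow_mk_iso_iff
    (Arrow.isoMk (L.rightDerivedFunctorPlus.mapIso (H.rightDerivedFunctorPlus.mapIso e))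
      (P.rightDerivedFunctorPlus.mapIso (F.rightDerivedFunctorPlus.mapIso e))
      ((adj.homEquiv_naturality_left_symm _ _).symm.trans ((congrArg (adj.homEquiv _ _).symm
        ((EtSix.rPlusDesc₃ θ).naturality e.hom)).trans (adj.homEquiv_naturality_right_symm _ _))))

/-- **the derived base change map on injective complexes** -/
theorem isIso_iff {L₀ : CochainComplex.Plus (InjectiveObject A)} {J₀ : CochainComplex.Plus (InjectiveObject B)}
    (s : (F.mapHomologicalComplex (ComplexShape.up ℤ)).obj ((InjectiveObject.ι A).mapCochainComplexPlus.obj L₀).obj ⟶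
      ((InjectiveObject.ι B).mapCochainComplexPlus.obj J₀).obj) [QuasiIso s]
    (adj : L.rightDerivedFunctorPlus ⊣ R.rightDerivedFunctorPlus) :
    IsIso ((adj.homEquiv _ _).symm ((EtSix.rPlusDesc₃ θ).app (DerivedCategory.Plus.Qh.obj
      ((HomotopyCategory.Plus.quotient A).obj ((InjectiveObject.ι A).mapCochainComplexPlus.obj L₀))))) ↔
      QuasiIso (bcG adjL θ s) := by
  obtain ⟨adj₀, h₀⟩ := exists_adj adjL
  rw [change θ adj adj₀, isIso_comp_left_iff]
  let K := (HomotopyCategory.Plus.quotient A).obj ((InjectiveObject.ι A).mapCochainComplexPlus.obj L₀)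
  let J := (HomotopyCategory.Plus.quotient B).obj ((InjectiveObject.ι B).mapCochainComplexPlus.obj J₀)
  let σ : F.mapHomotopyCategoryPlus.obj K ⟶ J :=
    ObjectProperty.homMk ((HomotopyCategory.quotient B (ComplexShape.up ℤ)).map s)
  haveI : IsIso (DerivedCategory.Plus.Qh.map σ) := by
    rw [← isIso_iff_of_reflects_iso _ DerivedCategory.Plus.ι]
    change IsIso (DerivedCategory.Qh.map ((HomotopyCategory.quotient B (ComplexShape.up ℤ)).map s))
    rw [DerivedCategory.isIso_Qh_map_iff, HomotopyCategory.quotient_map_mem_quasiIso_iff]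
    assumption
  let pp := (EtSix.plusNatTrans θ).app K ≫
    (Functor.mapHomotopyCategoryPlusCompIso (Iso.refl (F ⋙ (P ⋙ R)))).inv.app K ≫
    (Functor.mapHomotopyCategoryPlusCompIso (Iso.refl (P ⋙ R))).inv.app (F.mapHomotopyCategoryPlus.obj K)
  let ψ : L.mapHomotopyCategoryPlus.obj (H.mapHomotopyCategoryPlus.obj K) ⟶ P.mapHomotopyCategoryPlus.obj J :=
    L.mapHomotopyCategoryPlus.map pp ≫ (DerPlus.plusAdj adjL).counit.app _ ≫ P.mapHomotopyCategoryPlus.map σ
  have h := EtBCBridge.transpose_rep adj₀ DerivedCategory.Plus.Qh DerivedCategory.Plus.Qh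
    L.mapHomotopyCategoryPlus R.mapHomotopyCategoryPlus (fac L) P.mapHomotopyCategoryPlus DerivedCategory.Plus.Qh
    P.rightDerivedFunctorPlus P.rightDerivedFunctorPlusUnit σ pp _ _ (h₀ _)
    (H.rightDerivedFunctorPlusUnit.app K) ((EtSix.rPlusDesc₃ θ).app (DerivedCategory.Plus.Qh.obj K))
    ((fac F).hom.app K) (bcAdj_rep θ K) ψ rfl
  haveI : IsIso (H.rightDerivedFunctorPlusUnit.app K) := inferInstance
  haveI : IsIso (P.rightDerivedFunctorPlusUnit.app J) := inferInstance
  haveI : IsIso ((fac F).hom.app K ≫ DerivedCategory.Plus.Qh.map σ) := inferInstance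
  have h' : IsIso ((adj₀.homEquiv _ _).symm ((EtSix.rPlusDesc₃ θ).app (DerivedCategory.Plus.Qh.obj K))) ↔
      IsIso (DerivedCategory.Plus.Qh.map ψ) := by
    constructor
    · intro h1
      haveI : IsIso ((fac L).hom.app (H.mapHomotopyCategoryPlus.obj K) ≫ DerivedCategory.Plus.Qh.map ψ ≫
          P.rightDerivedFunctorPlusUnit.app J) := by
        rw [← h]
        exact IsIso.comp_isIso' inferInstance (IsIso.comp_isIso' h1 inferInstance)
      haveI : IsIso (DerivedCategory.Plus.Qh.map ψ ≫ P.rightDerivedFunctorPlusUnit.app J) :=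
        IsIso.of_isIso_comp_left ((fac L).hom.app (H.mapHomotopyCategoryPlus.obj K)) _
      exact IsIso.of_isIso_comp_right _ (P.rightDerivedFunctorPlusUnit.app J)
    · intro h1
      haveI := h1
      haveI : IsIso (L.rightDerivedFunctorPlus.map (H.rightDerivedFunctorPlusUnit.app K) ≫
          (adj₀.homEquiv _ _).symm ((EtSix.rPlusDesc₃ θ).app (DerivedCategory.Plus.Qh.obj K)) ≫
          P.rightDerivedFunctorPlus.map ((fac F).hom.app K ≫ DerivedCategory.Plus.Qh.map σ)) := by
        rw [h]
        exact IsIso.comp_isIso' inferInstance (IsIso.comp_isIso' h1 inferInstance)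
      have h2 := IsIso.of_isIso_comp_left (L.rightDerivedFunctorPlus.map (H.rightDerivedFunctorPlusUnit.app K))
        ((adj₀.homEquiv _ _).symm ((EtSix.rPlusDesc₃ θ).app (DerivedCategory.Plus.Qh.obj K)) ≫
          P.rightDerivedFunctorPlus.map ((fac F).hom.app K ≫ DerivedCategory.Plus.Qh.map σ))
      exact @IsIso.of_isIso_comp_right _ _ _ _ _ _
        (P.rightDerivedFunctorPlus.map ((fac F).hom.app K ≫ DerivedCategory.Plus.Qh.map σ)) inferInstance h2
  refine h'.trans ?_
  rw [← isIso_iff_of_reflects_iso _ DerivedCategory.Plus.ι]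
  change IsIso (DerivedCategory.Qh.map ((HomotopyCategory.Plus.ι C).map ψ)) ↔ _
  rw [show (HomotopyCategory.Plus.ι C).map ψ = _ from counit_pp adjL θ
    (I := (InjectiveObject.ι A).mapCochainComplexPlus.obj L₀)
    (J := (InjectiveObject.ι B).mapCochainComplexPlus.obj J₀) s]
  rw [DerivedCategory.isIso_Qh_map_iff, HomotopyCategory.quotient_map_mem_quasiIso_iff]
  rfl

include adjL in
/-- every object reduces to injective complexes -/
theorem exists_model (K : DerivedCategory.Plus A) :
    ∃ (L₀ : CochainComplex.Plus (InjectiveObject A)) (J₀ : CochainComplex.Plus (InjectiveObject B))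
      (s : (F.mapHomologicalComplex (ComplexShape.up ℤ)).obj ((InjectiveObject.ι A).mapCochainComplexPlus.obj L₀).obj ⟶
        ((InjectiveObject.ι B).mapCochainComplexPlus.obj J₀).obj), QuasiIso s ∧
      Nonempty (K ≅ DerivedCategory.Plus.Qh.obj
        ((HomotopyCategory.Plus.quotient A).obj ((InjectiveObject.ι A).mapCochainComplexPlus.obj L₀))) := by
  obtain ⟨_, ⟨L₀, rfl⟩, e⟩ := (DerPlus.isDeforming_plus (𝟭 (HomotopyCategory.Plus A))).res K
  obtain ⟨n, hn⟩ := ((InjectiveObject.ι A).mapCochainComplexPlus.obj L₀).property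
  haveI := hn
  let M : CochainComplex.Plus B := ⟨(F.mapHomologicalComplex (ComplexShape.up ℤ)).obj
    ((InjectiveObject.ι A).mapCochainComplexPlus.obj L₀).obj, n, inferInstance⟩
  haveI : CochainComplex.IsStrictlyGE M.obj n := inferInstanceAs (CochainComplex.IsStrictlyGE
    ((F.mapHomologicalComplex (ComplexShape.up ℤ)).obj ((InjectiveObject.ι A).mapCochainComplexPlus.obj L₀).obj) n)
  obtain ⟨J₀, -, i, hi⟩ := CochainComplex.Plus.exists_quasiIso_injective M n
  exact ⟨L₀, J₀, i.hom, hi, e⟩

end Square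

end Groth.Agent.DerPlusBC
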