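import Mathlib

/-!
Inverse images of sheaves of modules and of the underlying abelian sheaves agree.
-/

set_option autoImplicit false
set_option backward.isDefEq.respectTransparency false
set_option backward.isDefEq.respectTransparency.types false
set_option linter.style.haveILetI false
set_option linter.unusedSectionVars false

universe w₁ w₂ v₁ v₂ u

open CategoryTheory CategoryTheory.Limits Opposite

noncomputable section

namespace Groth.Agent.ModCstAcyc

variable (Λ : Type u) [CommRing Λ]

/-- `Hom_ℤ(Λ, A)` with its module structure -/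
def Co (A : AddCommGrpCat.{u}) : Type u := Λ →+ (A : Type u)

namespace Co

variable {Λ} {A : AddCommGrpCat.{u}}

instance : AddCommGroup (Co Λ A) := inferInstanceAs (AddCommGroup (Λ →+ (A : Type u)))

instance : FunLike (Co Λ A) Λ (A : Type u) := inferInstanceAs (FunLike (Λ →+ (A : Type u)) Λ (A : Type u))

instance : AddMonoidHomClass (Co Λ A) Λ (A : Type u) :=
  inferInstanceAs (AddMonoidHomClass (Λ →+ (A : Type u)) Λ (A : Type u))

instance : SMul Λ (Co Λ A) := ⟨fun r φ => (show Λ →+ (A : Type u) from φ).comp (AddMonoidHom.mulRight r)⟩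

theorem smul_apply (r : Λ) (φ : Co Λ A) (x : Λ) : (r • φ) x = φ (x * r) := rfl

@[ext] theorem ext {φ ψ : Co Λ A} (h : ∀ x, φ x = ψ x) : φ = ψ := DFunLike.ext _ _ h

instance : Module Λ (Co Λ A) where
  one_smul φ := ext fun x => by rw [smul_apply, mul_one]
  mul_smul r s φ := ext fun x => by rw [smul_apply, smul_apply, smul_apply, mul_assoc]
  smul_zero r := ext fun x => rfl
  smul_add r φ ψ := ext fun x => rfl
  add_smul r s φ := ext fun x => by
    show φ (x * (r + s)) = φ (x * r) + φ (x * s)
    rw [mul_add, map_add]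
  zero_smul φ := ext fun x => by
    show φ (x * 0) = 0
    rw [mul_zero, map_zero]

end Co

/-- the right adjoint of forgetting the module structure -/
def coext : AddCommGrpCat.{u} ⥤ ModuleCat.{u} Λ where
  obj A := ModuleCat.of Λ (Co Λ A)
  map {A B} f := ModuleCat.ofHom
    { toFun := fun φ => (f.hom.comp (show Λ →+ (A : Type u) from φ) : Λ →+ (B : Type u))
      map_add' := fun φ ψ => Co.ext fun x => map_add f.hom _ _
      map_smul' := fun r φ => rfl }

/-- forgetting the module structure is left adjoint to `coext` -/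
def coextAdj : forget₂ (ModuleCat.{u} Λ) AddCommGrpCat.{u} ⊣ coext Λ :=
  Adjunction.mkOfHomEquiv
    { homEquiv := fun M A =>
        { toFun := fun f => ModuleCat.ofHom
            (show (M : Type u) →ₗ[Λ] Co Λ A from
              { toFun := fun m => (AddMonoidHom.mk' (fun r : Λ => f.hom (show (M : Type u) from r • m)) fun r s => by
                  rw [← map_add]
                  exact congrArg f.hom (add_smul r s m) : Λ →+ (A : Type u))
                map_add' := fun m n => Co.ext fun r => by
                  show f.hom (r • (m + n) : (M : Type u)) = f.hom (r • m : (M : Type u)) + f.hom (r • n : (M : Type u))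
                  rw [← map_add]
                  exact congrArg f.hom (smul_add r m n)
                map_smul' := fun r m => Co.ext fun x => congrArg f.hom (mul_smul x r m).symm })
          invFun := fun g => AddCommGrpCat.ofHom (AddMonoidHom.mk' (fun m => (show Co Λ A from g.hom m) 1)
            fun m n => congrArg (fun φ : Co Λ A => φ 1) (map_add g.hom m n))
          left_inv := fun f => AddCommGrpCat.hom_ext (AddMonoidHom.ext fun m => congrArg f.hom (one_smul Λ (show (M : Type u) from m)))
          right_inv := fun g => ModuleCat.hom_ext (LinearMap.ext fun m => Co.ext fun r => by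
            show (show Co Λ A from g.hom (r • m)) 1 = (show Co Λ A from g.hom m) r
            rw [map_smul]
            exact congrArg (show Co Λ A from g.hom m) (one_mul r)) }
      homEquiv_naturality_left_symm := fun f g => rfl
      homEquiv_naturality_right := fun f g => rfl }

instance : (coext Λ).IsRightAdjoint := (coextAdj Λ).isRightAdjoint

section Pullback

variable {C : Type w₁} [Category.{v₁} C] {D : Type w₂} [Category.{v₂} D] {J : GrothendieckTopology C}
  {K : GrothendieckTopology D} (G : C ⥤ D) [G.IsContinuous J K]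
  [J.HasSheafCompose (forget₂ (ModuleCat.{u} Λ) AddCommGrpCat.{u})]
  [K.HasSheafCompose (forget₂ (ModuleCat.{u} Λ) AddCommGrpCat.{u})]
  [(G.sheafPushforwardContinuous (ModuleCat.{u} Λ) J K).IsRightAdjoint]
  [(G.sheafPushforwardContinuous AddCommGrpCat.{u} J K).IsRightAdjoint]

/-- forgetting on a site -/
abbrev fgt (J : GrothendieckTopology C) [J.HasSheafCompose (forget₂ (ModuleCat.{u} Λ) AddCommGrpCat.{u})] :=
  sheafCompose J (forget₂ (ModuleCat.{u} Λ) AddCommGrpCat.{u})

/-- the comparison of inverse images -/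
def pullCmp (F : Sheaf J (ModuleCat.{u} Λ)) :
    (G.sheafPullback AddCommGrpCat.{u} J K).obj ((fgt Λ J).obj F) ⟶
      (fgt Λ K).obj ((G.sheafPullback (ModuleCat.{u} Λ) J K).obj F) :=
  ((G.sheafAdjunctionContinuous AddCommGrpCat.{u} J K).homEquiv _ _).symm
    ((fgt Λ J).map ((G.sheafAdjunctionContinuous (ModuleCat.{u} Λ) J K).unit.app F))

theorem pullCmp_transpose (F : Sheaf J (ModuleCat.{u} Λ)) {M : Sheaf K (ModuleCat.{u} Λ)}
    (φ : (G.sheafPullback (ModuleCat.{u} Λ) J K).obj F ⟶ M) :
    pullCmp Λ G F ≫ (fgt Λ K).map φ = ((G.sheafAdjunctionContinuous AddCommGrpCat.{u} J K).homEquiv _ _).symm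
      ((fgt Λ J).map ((G.sheafAdjunctionContinuous (ModuleCat.{u} Λ) J K).homEquiv _ _ φ)) := by
  rw [pullCmp, ← Adjunction.homEquiv_naturality_right_symm]
  refine congrArg ((G.sheafAdjunctionContinuous AddCommGrpCat.{u} J K).homEquiv _ _).symm ?_
  rw [Adjunction.homEquiv_unit, Functor.map_comp]
  rfl

theorem pullCmp_natural {F F' : Sheaf J (ModuleCat.{u} Λ)} (a : F ⟶ F') :
    (G.sheafPullback AddCommGrpCat.{u} J K).map ((fgt Λ J).map a) ≫ pullCmp Λ G F' =
      pullCmp Λ G F ≫ (fgt Λ K).map ((G.sheafPullback (ModuleCat.{u} Λ) J K).map a) := by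
  rw [pullCmp_transpose, pullCmp, ← Adjunction.homEquiv_naturality_left_symm]
  refine congrArg ((G.sheafAdjunctionContinuous AddCommGrpCat.{u} J K).homEquiv _ _).symm ?_
  rw [Adjunction.homEquiv_unit, ← Functor.map_comp]
  exact congrArg (fgt Λ J).map ((G.sheafAdjunctionContinuous (ModuleCat.{u} Λ) J K).unit.naturality a)

end Pullback

section Coext

variable {C : Type w₁} [Category.{v₁} C] {J : GrothendieckTopology C}
  [J.HasSheafCompose (forget₂ (ModuleCat.{u} Λ) AddCommGrpCat.{u})]

/-- maps out of the underlying sheaf are maps into the coinduced one -/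
def sheafCoext (M : Sheaf J (ModuleCat.{u} Λ)) (A : Sheaf J AddCommGrpCat.{u}) :
    ((sheafCompose J (forget₂ (ModuleCat.{u} Λ) AddCommGrpCat.{u})).obj M ⟶ A) ≃
      (M ⟶ (sheafCompose J (coext Λ)).obj A) where
  toFun φ := ⟨((coextAdj Λ).whiskerRight Cᵒᵖ).homEquiv M.obj A.obj φ.hom⟩
  invFun ψ := ⟨(((coextAdj Λ).whiskerRight Cᵒᵖ).homEquiv M.obj A.obj).symm ψ.hom⟩
  left_inv φ := Sheaf.hom_ext ((((coextAdj Λ).whiskerRight Cᵒᵖ).homEquiv M.obj A.obj).symm_apply_apply φ.hom)
  right_inv ψ := Sheaf.hom_ext ((((coextAdj Λ).whiskerRight Cᵒᵖ).homEquiv M.obj A.obj).apply_symm_apply ψ.hom)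

theorem sheafCoext_natural {M M' : Sheaf J (ModuleCat.{u} Λ)} (a : M' ⟶ M) {A : Sheaf J AddCommGrpCat.{u}}
    (φ : (sheafCompose J (forget₂ (ModuleCat.{u} Λ) AddCommGrpCat.{u})).obj M ⟶ A) :
    sheafCoext Λ M' A ((sheafCompose J (forget₂ (ModuleCat.{u} Λ) AddCommGrpCat.{u})).map a ≫ φ) =
      a ≫ sheafCoext Λ M A φ :=
  Sheaf.hom_ext (((coextAdj Λ).whiskerRight Cᵒᵖ).homEquiv_naturality_left a.hom φ.hom)

end Coext

section Main

variable {C : Type w₁} [Category.{v₁} C] {D : Type w₂} [Category.{v₂} D] {J : GrothendieckTopology C}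
  {K : GrothendieckTopology D} (G : C ⥤ D) [G.IsContinuous J K]
  [J.HasSheafCompose (forget₂ (ModuleCat.{u} Λ) AddCommGrpCat.{u})]
  [K.HasSheafCompose (forget₂ (ModuleCat.{u} Λ) AddCommGrpCat.{u})]
  [(G.sheafPushforwardContinuous (ModuleCat.{u} Λ) J K).IsRightAdjoint]
  [(G.sheafPushforwardContinuous AddCommGrpCat.{u} J K).IsRightAdjoint]

/-- **inverse images commute with forgetting the module structure** -/
theorem isIso_pullCmp (F : Sheaf J (ModuleCat.{u} Λ)) : IsIso (pullCmp (K := K) Λ G F) := by
  refine (isIso_iff_coyoneda_map_bijective (pullCmp (K := K) Λ G F)).2 fun A => ?_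
  let aA := G.sheafAdjunctionContinuous AddCommGrpCat.{u} J K
  let aM := G.sheafAdjunctionContinuous (ModuleCat.{u} Λ) J K
  let P := (G.sheafPullback (ModuleCat.{u} Λ) J K).obj F
  let E : ((fgt Λ K).obj P ⟶ A) ≃ ((G.sheafPullback AddCommGrpCat.{u} J K).obj ((fgt Λ J).obj F) ⟶ A) :=
    ((sheafCoext Λ P A).trans (aM.homEquiv F _)).trans
      ((sheafCoext Λ F ((G.sheafPushforwardContinuous AddCommGrpCat.{u} J K).obj A)).symm.trans (aA.homEquiv _ _).symm)
  have hE : (fun φ : (fgt Λ K).obj P ⟶ A => pullCmp (K := K) Λ G F ≫ φ) = E := by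
    funext φ
    show pullCmp Λ G F ≫ φ = (aA.homEquiv _ _).symm ((sheafCoext Λ F _).symm (aM.homEquiv F _ (sheafCoext Λ P A φ)))
    rw [pullCmp, ← Adjunction.homEquiv_naturality_right_symm]
    refine congrArg (aA.homEquiv _ _).symm ((sheafCoext Λ F _).eq_symm_apply.2 ?_)
    refine (sheafCoext_natural Λ (aM.unit.app F) ((G.sheafPushforwardContinuous AddCommGrpCat.{u} J K).map φ)).trans ?_
    rw [Adjunction.homEquiv_unit]
    rfl
  rw [hE]
  exact E.bijective

end Main

end Groth.Agent.ModCstAcyc
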