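import Groth.Agent.EtModAcyc.Push
import Groth.Agent.EtModAcyc.Forget
import Groth.Agent.EtModAcyc.DerivedBC
import Groth.Agent.EtPBC.Derived
import Groth.Agent.RPlusComp.Etale
import Groth.Agent.EtBCVcomp.Local
import Groth.Agent.EtPBC.TopShriek
import Mathlib

/-!
Proper base change for bounded below complexes of sheaves of modules.
-/

set_option autoImplicit false
set_option backward.isDefEq.respectTransparency false
set_option backward.isDefEq.respectTransparency.types false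
set_option linter.style.haveILetI false
set_option linter.unusedSectionVars false
set_option maxHeartbeats 1000000

universe u

open CategoryTheory CategoryTheory.Limits AlgebraicGeometry Opposite

attribute [local instance] HasDerivedCategory.standard

noncomputable section

namespace Groth.Agent.EtModAcyc

variable (Λ : Type (u + 1)) [CommRing Λ] {X S X' S' : Scheme.{u}}
  (f : X ⟶ S) (g : S' ⟶ S) (f' : X' ⟶ S') (g' : X' ⟶ X) (w : g' ≫ f = f' ≫ g)

theorem forget_exact (X : Scheme.{u}) : PreservesFiniteLimits (F₀ Λ X) ∧ PreservesFiniteColimits (F₀ Λ X) ∧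
    (F₀ Λ X).Additive ∧ (F₀ Λ X).ReflectsIsomorphisms := by
  refine ⟨GalNorm.forgetToAb_preservesFiniteLimits Λ X, GalNorm.forgetToAb_preservesFiniteColimits Λ X,
    GalNorm.forgetToAb_additive Λ X, ?_⟩
  haveI : (F₀ Λ X).Faithful := ⟨fun {A B} a b h => by
    refine Sheaf.hom_ext (NatTrans.ext (funext fun U => ?_))
    exact (forget₂ (ModuleCat.{u + 1} Λ) AddCommGrpCat.{u + 1}).map_injective
      (congrArg (fun m : (F₀ Λ X).obj A ⟶ (F₀ Λ X).obj B => m.hom.app U) h)⟩
  exact reflectsIsomorphisms_of_reflectsMonomorphisms_of_reflectsEpimorphisms _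

/-- the comparison of inverse images -/
abbrev τ {X Y : Scheme.{u}} (h : X ⟶ Y) (F : EtModW.Mod Λ Y) :
    (EtCoh.pull h).obj ((F₀ Λ Y).obj F) ⟶ (F₀ Λ X).obj ((EtModW.pull Λ h).obj F) :=
  ModCstAcyc.pullCmp Λ (EtCoh.bc h) F

/-- **base change maps agree** -/
theorem baseChange0_compat (F : EtModW.Mod Λ X) :
    τ Λ g ((EtModW.push Λ f).obj F) ≫ (F₀ Λ S').map (EtSix.baseChange0Mod Λ f g f' g' w F) =
      EtCoh.baseChange0 f g f' g' w ((F₀ Λ X).obj F) ≫ (EtCoh.push f').map (τ Λ g' F) := by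
  refine (ModCstAcyc.pullCmp_transpose Λ (EtCoh.bc g) _ _).trans ?_
  rw [EtCoh.baseChange0, ← Adjunction.homEquiv_naturality_right_symm]
  refine congrArg ((EtCoh.pullPushAdj g).homEquiv _ _).symm ?_
  rw [EtSix.baseChange0Mod, Equiv.apply_symm_apply]
  have hη : (F₀ Λ X).map ((EtSix.pullPushModAdj Λ g').unit.app F) =
      (EtCoh.pullPushAdj g').unit.app ((F₀ Λ X).obj F) ≫ (EtCoh.push g').map (τ Λ g' F) :=
    (((EtCoh.pullPushAdj g').homEquiv ((F₀ Λ X).obj F) ((F₀ Λ X').obj ((EtModW.pull Λ g').obj F))).apply_symm_apply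
      ((F₀ Λ X).map ((EtSix.pullPushModAdj Λ g').unit.app F))).symm.trans (Adjunction.homEquiv_unit (EtCoh.pullPushAdj g') _ _ _)
  let c : EtCoh.push g' ⋙ EtCoh.push f ⟶ EtCoh.push f' ⋙ EtCoh.push g :=
    (EtCoh.pushComp f g').hom ≫ (EtCoh.pushCongr w).hom ≫ (EtCoh.pushComp g f').inv
  have hc : ∀ M : EtModW.Mod Λ X', (F₀ Λ S).map ((EtSix.pushModComp Λ f g').hom.app M ≫
      (EtSix.pushModCongr Λ w).hom.app M ≫ (EtSix.pushModComp Λ g f').inv.app M) = c.app ((F₀ Λ X').obj M) :=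
    fun M => rfl
  have e : (EtCoh.push f).map ((F₀ Λ X).map ((EtSix.pullPushModAdj Λ g').unit.app F)) ≫
      c.app ((F₀ Λ X').obj ((EtModW.pull Λ g').obj F)) =
      ((EtCoh.push f).map ((EtCoh.pullPushAdj g').unit.app ((F₀ Λ X).obj F)) ≫
        (EtCoh.pushComp f g').hom.app _ ≫ (EtCoh.pushCongr w).hom.app _ ≫ (EtCoh.pushComp g f').inv.app _) ≫
          (EtCoh.push g).map ((EtCoh.push f').map (τ Λ g' F)) := by
    rw [hη, Functor.map_comp, Category.assoc, Category.assoc]
    exact congrArg (_ ≫ ·) (c.naturality (τ Λ g' F))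
  refine Eq.trans ?_ e
  rw [← hc]
  simp only [EtSix.pushToPushPullMod, NatTrans.comp_app, Functor.leftUnitor_inv_app, Functor.whiskerRight_app,
    Functor.associator_hom_app, Functor.whiskerLeft_app, Category.id_comp]
  exact (F₀ Λ S).map_comp _ _

section Ab

variable [IsProper f]

theorem quasiIso_push_map {K : CochainComplex.Plus (EtCoh.Ab X)} {L : CochainComplex.Plus (InjectiveObject (EtCoh.Ab X))}
    (i : K ⟶ (InjectiveObject.ι (EtCoh.Ab X)).mapCochainComplexPlus.obj L) (hi : QuasiIso i.hom) {Y : Scheme.{u}}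
    (h : X ⟶ Y) (hK : ∀ m, EtMV.Flq (K.obj.X m)) :
    QuasiIso (((EtCoh.push h).mapHomologicalComplex (ComplexShape.up ℤ)).map i.hom) := by
  haveI : PreservesFiniteLimits (EtCoh.push h) :=
    haveI : (EtCoh.push h).IsRightAdjoint := (EtCoh.pullPushAdj h).isRightAdjoint
    inferInstance
  exact (DerPlus.isIso_unit_iff (EtCoh.push h) i hi).1
    (DerPlus.leray (EtCoh.push h) K fun m q hq => isZero_Rpush_of_flq h _ (hK m) q hq)

/-- **proper base change on complexes of flasque sheaves** -/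
theorem quasiIso_bcCx (hc : IsPullback g' f' f g) {Ia : CochainComplex.Plus (EtCoh.Ab X)}
    {Ja : CochainComplex.Plus (EtCoh.Ab X')}
    (s : ((EtCoh.pull g').mapHomologicalComplex (ComplexShape.up ℤ)).obj Ia.obj ⟶ Ja.obj) [QuasiIso s]
    (hI : ∀ m, EtMV.Flq (Ia.obj.X m)) (hJ : ∀ m, EtMV.Flq (Ja.obj.X m))
    (hT : ∀ m, EtCoh.IsTorsion (Ia.obj.homology m)) : QuasiIso (EtBCBridge.bcCx f g f' g' hc.w s) := by
  haveI := EtPullExact.pull_preservesFiniteLimits g
  haveI := EtPullExact.pull_preservesFiniteLimits g'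
  haveI := EtBCVcomp.hasRpushEt f
  haveI := EtBCVcomp.hasRpushEt f'
  haveI := EtBCVcomp.hasRpushEt g
  obtain ⟨n, hn⟩ := Ia.property
  obtain ⟨L, hL, i, hi⟩ := CochainComplex.Plus.exists_quasiIso_injective Ia n
  obtain ⟨n', hn'⟩ := Ja.property
  obtain ⟨M, hM, j, hj⟩ := CochainComplex.Plus.exists_quasiIso_injective Ja n'
  let I₁ : CochainComplex (EtCoh.Ab X) ℤ := ((InjectiveObject.ι (EtCoh.Ab X)).mapCochainComplexPlus.obj L).obj
  let J₁ : CochainComplex (EtCoh.Ab X') ℤ := ((InjectiveObject.ι (EtCoh.Ab X')).mapCochainComplexPlus.obj M).obj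
  haveI hI₁ : CochainComplex.IsKInjective I₁ := DerPlus.isKInjective_inj L
  haveI hJ₁ : CochainComplex.IsKInjective J₁ := DerPlus.isKInjective_inj M
  haveI : QuasiIso i.hom := hi
  haveI : QuasiIso j.hom := hj
  let pi := ((EtCoh.pull g').mapHomologicalComplex (ComplexShape.up ℤ)).map i.hom
  let q := HomotopyCategory.quotient (EtCoh.Ab X') (ComplexShape.up ℤ)
  haveI hq : ∀ {A B : CochainComplex (EtCoh.Ab X') ℤ} (a : A ⟶ B) [QuasiIso a],
      IsIso (DerivedCategory.Qh.map (q.map a)) := fun a _ => by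
    rw [DerivedCategory.isIso_Qh_map_iff, HomotopyCategory.quotient_map_mem_quasiIso_iff]
    exact ‹QuasiIso a›
  obtain ⟨σ, hσ⟩ := (CochainComplex.IsKInjective.Qh_map_bijective (q.obj _) J₁).2
    (inv (DerivedCategory.Qh.map (q.map pi)) ≫ DerivedCategory.Qh.map (q.map (s ≫ j.hom)))
  obtain ⟨s₁, rfl⟩ := q.map_surjective σ
  haveI : IsIso (DerivedCategory.Qh.map (q.map s₁)) := by
    rw [hσ]
    infer_instance
  haveI : QuasiIso s₁ := (HomotopyCategory.quotient_map_mem_quasiIso_iff _).1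
    ((DerivedCategory.isIso_Qh_map_iff _).1 inferInstance)
  have hh : q.map (pi ≫ s₁) = q.map (s ≫ j.hom) := by
    refine (CochainComplex.IsKInjective.Qh_map_bijective (q.obj _) J₁).1 ?_
    rw [Functor.map_comp q pi s₁, Functor.map_comp, hσ, IsIso.hom_inv_id_assoc]
  obtain ⟨adj, -⟩ := EtBCBridge.exists_adj g
  let Q₁ := (DerivedCategory.quotientCompQhIso (EtCoh.Ab X)).app I₁
  haveI : CochainComplex.IsStrictlyGE I₁ n :=
    (CochainComplex.isStrictlyGE_mapHomologicalComplex_obj_iff L.obj (InjectiveObject.ι _) n).2 hL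
  haveI : (DerivedCategory.Qh.obj ((EtBCBridge.qh X).obj I₁)).IsGE n :=
    (DerivedCategory.isGE_iff _ n).2 fun k hk =>
      ((HomologicalComplex.exactAt_iff_isZero_homology _ _).1 (CochainComplex.exactAt_of_isGE I₁ n k hk)).of_iso
        ((DerivedCategory.homologyFunctor (EtCoh.Ab X) k).mapIso Q₁ ≪≫
          (DerivedCategory.homologyFunctorFactors (EtCoh.Ab X) k).app I₁)
  have h1 : QuasiIso (EtBCBridge.bcCx f g f' g' hc.w s₁) := by
    refine (EtPBC.isIso_bcMap_iff_quasiIso f g f' g' hc.w adj s₁).1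
      (EtPBC.isIso_bcMap_of_isGE f g f' g' hc.w adj _ n fun k r => EtPBC.isIso_bcQ_proper f g f' g' hc _
        (EtPBC.isLTorsion_univ_of_isTorsion (EtPBC.isTorsion_of_epi
          (((DerivedCategory.homologyFunctor (EtCoh.Ab X) k).mapIso Q₁ ≪≫
            (DerivedCategory.homologyFunctorFactors (EtCoh.Ab X) k).app I₁).inv) ?_)) r)
    haveI : IsIso (HomologicalComplex.homologyMap i.hom k) :=
      (quasiIsoAt_iff_isIso_homologyMap i.hom k).1 (hi.quasiIsoAt k)
    exact EtPBC.isTorsion_of_epi (HomologicalComplex.homologyMap i.hom k) (hT k)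
  haveI := h1
  haveI := quasiIso_push_map i hi f hI
  haveI := quasiIso_push_map j hj f' hJ
  let P' := (EtCoh.push f').mapHomologicalComplex (ComplexShape.up ℤ)
  let b := EtBCBridge.bcCx f g f' g' hc.w (𝟙 (((EtCoh.pull g').mapHomologicalComplex (ComplexShape.up ℤ)).obj Ia.obj))
  have hb : ∀ {J : CochainComplex (EtCoh.Ab X') ℤ}
      (t : ((EtCoh.pull g').mapHomologicalComplex (ComplexShape.up ℤ)).obj Ia.obj ⟶ J),
      EtBCBridge.bcCx f g f' g' hc.w t = b ≫ P'.map t := fun t => by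
    refine HomologicalComplex.hom_ext _ _ fun k => ?_
    simp [b, P', EtBCBridge.bcCx]
    rw [← Functor.map_comp]
    exact congrArg (fun z => _ ≫ (EtCoh.push f').map z) (Category.id_comp _).symm
  let pgf := ((EtCoh.pull g).mapHomologicalComplex (ComplexShape.up ℤ)).map
    (((EtCoh.push f).mapHomologicalComplex (ComplexShape.up ℤ)).map i.hom)
  have e1 : pgf ≫ EtBCBridge.bcCx f g f' g' hc.w s₁ = EtBCBridge.bcCx f g f' g' hc.w (pi ≫ s₁) := by
    refine HomologicalComplex.hom_ext _ _ fun k => ?_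
    simp only [pgf, pi, EtBCBridge.bcCx, HomologicalComplex.comp_f, Functor.map_comp,
      Functor.mapHomologicalComplex_map_f]
    rw [← Category.assoc, ← Category.assoc, EtIntegralBC.baseChange0_natural]
  let qS := HomotopyCategory.quotient (EtCoh.Ab S') (ComplexShape.up ℤ)
  have e2 : qS.map (pgf ≫ EtBCBridge.bcCx f g f' g' hc.w s₁) =
      qS.map (EtBCBridge.bcCx f g f' g' hc.w s ≫ P'.map j.hom) := by
    rw [e1, hb, hb s, Category.assoc, ← Functor.map_comp, Functor.map_comp qS, Functor.map_comp qS]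
    refine congrArg (qS.map b ≫ ·) ?_
    exact congrArg ((EtCoh.push f').mapHomotopyCategory (ComplexShape.up ℤ)).map hh
  haveI : QuasiIso (EtBCBridge.bcCx f g f' g' hc.w s ≫ P'.map j.hom) := by
    refine (HomotopyCategory.quotient_map_mem_quasiIso_iff _).1 ?_
    rw [← e2]
    exact (HomotopyCategory.quotient_map_mem_quasiIso_iff _).2
      (inferInstanceAs (QuasiIso (pgf ≫ EtBCBridge.bcCx f g f' g' hc.w s₁)))
  exact (quasiIso_iff_comp_right _ (P'.map j.hom)).1 inferInstance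

end Ab

/-- **proper base change for sheaves of modules on `D⁺`** -/
theorem isIso_bcMapMod (hc : IsPullback g' f' f g) [IsProper f]
    (adj : (EtModW.pull Λ g).rightDerivedFunctorPlus ⊣ (EtModW.push Λ g).rightDerivedFunctorPlus)
    (K : DerivedCategory.Plus (EtModW.Mod Λ X))
    (hK : ∀ i : ℤ, EtCoh.IsTorsion ((F₀ Λ X).obj ((DerivedCategory.Plus.homologyFunctor (EtModW.Mod Λ X) i).obj K))) :
    IsIso (EtSix.bcMapMod Λ f g f' g' hc.w adj K) := by
  haveI := RPlusComp.pullMod_preservesFiniteLimits Λ g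
  haveI := RPlusComp.pullMod_preservesFiniteLimits Λ g'
  haveI : IsProper f' := MorphismProperty.of_isPullback (P := @IsProper) hc inferInstance
  obtain ⟨_, _, _, _⟩ := forget_exact Λ X
  obtain ⟨_, _, _, _⟩ := forget_exact Λ X'
  obtain ⟨_, _, _, _⟩ := forget_exact Λ S'
  let adjg := EtSix.pullPushModAdj Λ g
  let θ := EtSix.pushToPushPullMod Λ f g f' g' hc.w
  obtain ⟨L₀, J₀, s, hs, ⟨e⟩⟩ := DerPlusBC.exists_model (F := EtModW.pull Λ g') adjg K
  haveI := hs
  refine (DerPlusBC.congr_obj θ adj e).2 ((DerPlusBC.isIso_iff adjg θ s adj).2 ?_)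
  let I := (InjectiveObject.ι (EtModW.Mod Λ X)).mapCochainComplexPlus.obj L₀
  let J := (InjectiveObject.ι (EtModW.Mod Λ X')).mapCochainComplexPlus.obj J₀
  obtain ⟨a, ha⟩ := I.property
  obtain ⟨b, hb⟩ := J.property
  haveI := ha
  haveI := hb
  let Ia : CochainComplex.Plus (EtCoh.Ab X) :=
    ⟨((F₀ Λ X).mapHomologicalComplex (ComplexShape.up ℤ)).obj I.obj, a, inferInstance⟩
  let Ja : CochainComplex.Plus (EtCoh.Ab X') :=
    ⟨((F₀ Λ X').mapHomologicalComplex (ComplexShape.up ℤ)).obj J.obj, b, inferInstance⟩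
  haveI : ∀ {A B : Scheme.{u}} (h : A ⟶ B) (F : EtModW.Mod Λ B), IsIso (τ Λ h F) := fun h F =>
    ModCstAcyc.isIso_pullCmp Λ (EtCoh.bc h) F
  let T' : ((EtCoh.pull g').mapHomologicalComplex (ComplexShape.up ℤ)).obj Ia.obj ≅
      ((F₀ Λ X').mapHomologicalComplex (ComplexShape.up ℤ)).obj
        (((EtModW.pull Λ g').mapHomologicalComplex (ComplexShape.up ℤ)).obj I.obj) :=
    HomologicalComplex.Hom.isoOfComponents (fun n => asIso (τ Λ g' (I.obj.X n)))
      (fun k l _ => (ModCstAcyc.pullCmp_natural Λ (EtCoh.bc g') (I.obj.d k l)).symm)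
  let T : ((EtCoh.pull g).mapHomologicalComplex (ComplexShape.up ℤ)).obj
      (((EtCoh.push f).mapHomologicalComplex (ComplexShape.up ℤ)).obj Ia.obj) ≅
      ((F₀ Λ S').mapHomologicalComplex (ComplexShape.up ℤ)).obj (((EtModW.pull Λ g).mapHomologicalComplex (ComplexShape.up ℤ)).obj
        (((EtModW.push Λ f).mapHomologicalComplex (ComplexShape.up ℤ)).obj I.obj)) :=
    HomologicalComplex.Hom.isoOfComponents (fun n => asIso (τ Λ g ((EtModW.push Λ f).obj (I.obj.X n))))
      (fun k l _ => (ModCstAcyc.pullCmp_natural Λ (EtCoh.bc g) ((EtModW.push Λ f).map (I.obj.d k l))).symm)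
  haveI : QuasiIso (((F₀ Λ X').mapHomologicalComplex (ComplexShape.up ℤ)).map s) := inferInstance
  let sa : ((EtCoh.pull g').mapHomologicalComplex (ComplexShape.up ℤ)).obj Ia.obj ⟶ Ja.obj :=
    T'.hom ≫ ((F₀ Λ X').mapHomologicalComplex (ComplexShape.up ℤ)).map s
  haveI : QuasiIso sa := inferInstanceAs (QuasiIso (T'.hom ≫ _))
  have hab := quasiIso_bcCx f g f' g' hc sa (fun m =>
      haveI : Injective (I.obj.X m) := (L₀.obj.X m).property
      flq_injective (I.obj.X m))
    (fun m =>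
      haveI : Injective (J.obj.X m) := (J₀.obj.X m).property
      flq_injective (J.obj.X m))
    (fun m => EtPBC.isTorsion_of_epi
      (((F₀ Λ X).mapIso ((DerivedCategory.Plus.homologyFunctor _ m).mapIso e ≪≫
        (DerivedCategory.homologyFunctor _ m).mapIso
          ((DerivedCategory.quotientCompQhIso (EtModW.Mod Λ X)).app I.obj) ≪≫
        (DerivedCategory.homologyFunctorFactors _ m).app I.obj)) ≪≫
        ((I.obj.sc m).mapHomologyIso (F₀ Λ X)).symm).hom (hK m))
  have key : T.hom ≫ ((F₀ Λ S').mapHomologicalComplex (ComplexShape.up ℤ)).map (DerPlusBC.bcG adjg θ s) =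
      EtBCBridge.bcCx f g f' g' hc.w sa := by
    refine HomologicalComplex.hom_ext _ _ fun n => ?_
    show τ Λ g _ ≫ (F₀ Λ S').map (EtSix.baseChange0Mod Λ f g f' g' hc.w (I.obj.X n) ≫ (EtModW.push Λ f').map (s.f n)) =
      EtCoh.baseChange0 f g f' g' hc.w _ ≫ (EtCoh.push f').map (τ Λ g' (I.obj.X n) ≫ (F₀ Λ X').map (s.f n))
    rw [Functor.map_comp, Functor.map_comp, reassoc_of% (baseChange0_compat Λ f g f' g' hc.w (I.obj.X n))]
    rfl
  haveI : QuasiIso (T.hom ≫ ((F₀ Λ S').mapHomologicalComplex (ComplexShape.up ℤ)).map (DerPlusBC.bcG adjg θ s)) := by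
    rw [key]
    exact hab
  exact (HomologicalComplex.quasiIso_map_iff_of_preservesHomology (DerPlusBC.bcG adjg θ s) (F₀ Λ S')).1
    ((quasiIso_iff_comp_left T.hom _).1 inferInstance)

end Groth.Agent.EtModAcyc
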