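import Groth.Agent.EtModAcyc.Push
import Groth.Agent.EtModAcyc.Forget
import Groth.Agent.EtModAcyc.DerivedBC
import Groth.Agent.EtModAcyc.ProperBC
import Groth.Agent.DerPlus.Acyclic
import Groth.Agent.RDerBound.Basic
import Groth.Agent.EtPBC.ShriekProperDim
import Groth.Agent.EtShriekStalk.Basic
import Groth.Prelude.Def_EtDl
import Mathlib

/-!
Amplitude of `R f_!` on bounded below complexes of sheaves of modules.
-/

set_option autoImplicit false
set_option backward.isDefEq.respectTransparency false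
set_option backward.isDefEq.respectTransparency.types false
set_option linter.style.haveILetI false
set_option linter.unusedSectionVars false
set_option maxHeartbeats 1000000

universe u w v w' v'

open CategoryTheory Category CategoryTheory.Limits AlgebraicGeometry Opposite

attribute [local instance] HasDerivedCategory.standard

noncomputable section

namespace Groth.Agent.EtModAcyc

section Shift

variable {A : Type w} [Category.{v} A] [Abelian A] [EnoughInjectives A]
  {B : Type w'} [Category.{v'} B] [Abelian B] (F : A ⥤ B) [F.Additive] [PreservesFiniteLimits F]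
  (I : CochainComplex A ℤ) (N : ℕ) (a b : ℤ) [hGE : I.IsStrictlyGE a]
  (hI : ∀ (m : ℤ) (p : ℕ), 0 < p → IsZero ((F.rightDerived p).obj (I.X m)))
  (hN : ∀ (m : ℤ) (p : ℕ), N ≤ p → IsZero ((F.rightDerived p).obj (I.homology m)))
  (hb : ∀ m, b < m → IsZero (I.homology m))

include hI in
/-- one step of dimension shifting -/
theorem isZero_cycles_step (j : ℤ) (p : ℕ) (hp : 0 < p)
    (h₁ : IsZero ((F.rightDerived (p + 1)).obj (I.cycles (j - 1))))
    (h₃ : IsZero ((F.rightDerived p).obj (I.homology j))) :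
    IsZero ((F.rightDerived p).obj (I.cycles j)) := by
  let T₁ := RDerLib.res (RDerBound.ses_cycles I (j - 1) j (by omega))
  have hB : IsZero ((F.rightDerived p).obj (RDerBound.bnd I j)) :=
    (RDerLib.exact₃ F T₁ p (p + 1) rfl).isZero_of_both_zeros
      ((hI (j - 1) p hp).eq_of_src _ _) (h₁.eq_of_tgt _ _)
  exact (RDerLib.exact₂ F (RDerLib.res (RDerBound.ses_bnd I j)) p).isZero_of_both_zeros
    (hB.eq_of_src _ _) (h₃.eq_of_tgt _ _)

include hI hN hGE in
theorem isZero_cycles_all (j : ℤ) : ∀ p, 0 < p → N ≤ p → IsZero ((F.rightDerived p).obj (I.cycles j)) := by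
  suffices key : ∀ (n : ℕ) (j : ℤ), j < a + n → ∀ p, 0 < p → N ≤ p → IsZero ((F.rightDerived p).obj (I.cycles j)) from
    key (j - a + 1).toNat j (by omega)
  intro n
  induction n with
  | zero =>
    intro j hj p _ _
    haveI : (F.rightDerived p).Additive := inferInstance
    exact (F.rightDerived p).map_isZero (IsZero.of_mono (I.iCycles j) (I.isZero_of_isStrictlyGE a j (by omega)))
  | succ n ih =>
    intro j hj p hp hpN
    exact isZero_cycles_step F I hI j p hp (ih (j - 1) (by omega) (p + 1) (by omega) (by omega)) (hN j p hpN)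

include hI hN hb hGE in
theorem isZero_cycles_high : ∀ (k p : ℕ), 0 < p → N ≤ p + k → IsZero ((F.rightDerived p).obj (I.cycles (b + k))) := by
  intro k
  induction k with
  | zero => exact fun p hp hpN => isZero_cycles_all F I N a hI hN _ p hp (by omega)
  | succ k ih =>
    intro p hp hpk
    haveI : (F.rightDerived p).Additive := inferInstance
    refine isZero_cycles_step F I hI _ p hp ?_ ((F.rightDerived p).map_isZero (hb _ (by omega)))
    rw [show (b + ((k + 1 : ℕ) : ℤ)) - 1 = b + k by omega]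
    exact ih (p + 1) (by omega) (by omega)

include hI hN hb hGE in
/-- **a left exact functor of cohomological dimension `< N` on a complex of acyclic objects** -/
theorem exactAt_map_acyclic (hN0 : 0 < N) (i : ℤ) (hi : b + N ≤ i) :
    ((F.mapHomologicalComplex (ComplexShape.up ℤ)).obj I).ExactAt i := by
  obtain ⟨n, rfl⟩ : ∃ n, i = n + 1 := ⟨i - 1, by omega⟩
  have h₁ : IsZero ((F.rightDerived 1).obj (I.cycles n)) := by
    have := isZero_cycles_high F I N a b hI hN hb (n - b).toNat 1 one_pos (by omega)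
    rwa [show b + ((n - b).toNat : ℤ) = n by omega] at this
  have hse : (ShortComplex.mk (I.iCycles n) (I.toCycles n (n + 1)) (by
      rw [← cancel_mono (I.iCycles (n + 1)), assoc, I.toCycles_i, I.iCycles_d, zero_comp])).ShortExact := by
    refine { exact := ?_, epi_g := ?_ }
    · refine ShortComplex.exact_of_f_is_kernel _ (KernelFork.IsLimit.ofι' _ _ fun k hk =>
        ⟨I.liftCycles k (n + 1) (by simp) ?_, I.liftCycles_i _ _ _ _⟩)
      rw [← I.toCycles_i n (n + 1), ← assoc]
      exact (congrArg (· ≫ I.iCycles (n + 1)) hk).trans zero_comp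
    · exact (ShortComplex.exact_of_g_is_cokernel (ShortComplex.mk (I.toCycles n (n + 1))
        (I.homologyπ (n + 1)) (I.toCycles_comp_homologyπ n (n + 1)))
        (I.homologyIsCokernel n (n + 1) (by simp))).epi_f ((hb (n + 1) (by omega)).eq_of_tgt _ _)
  haveI : Epi ((F.rightDerived 0).map (I.toCycles n (n + 1))) :=
    (RDerLib.exact₃ F (RDerLib.res hse) 0 1 rfl).epi_f (h₁.eq_of_tgt _ _)
  haveI : Epi (F.map (I.toCycles n (n + 1))) := by
    have : Epi (F.map (I.toCycles n (n + 1)) ≫ F.toRightDerivedZero.app (I.cycles (n + 1))) := by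
      rw [F.toRightDerivedZero.naturality]; infer_instance
    rw [show F.map (I.toCycles n (n + 1)) = (F.map (I.toCycles n (n + 1)) ≫
        F.toRightDerivedZero.app (I.cycles (n + 1))) ≫
          inv (F.toRightDerivedZero.app (I.cycles (n + 1))) by simp]
    infer_instance
  rw [HomologicalComplex.exactAt_iff' _ n (n + 1) (n + 1 + 1) (by simp) (by simp),
    ShortComplex.exact_iff_exact_up_to_refinements]
  intro W x hx
  change W ⟶ F.obj (I.X (n + 1)) at x
  change x ≫ F.map (I.d (n + 1) (n + 1 + 1)) = 0 at hx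
  obtain ⟨z, hz⟩ := KernelFork.IsLimit.lift'
    (KernelFork.mapIsLimit _ (I.cyclesIsKernel (n + 1) (n + 1 + 1) (by simp)) F) x hx
  obtain ⟨W', π, hπ, y, hy⟩ := surjective_up_to_refinements_of_epi (F.map (I.toCycles n (n + 1))) z
  refine ⟨W', π, hπ, y, ?_⟩
  change π ≫ x = y ≫ F.map (I.d n (n + 1))
  rw [← hz, reassoc_of% hy, ← I.toCycles_i n (n + 1), F.map_comp]
  rfl

end Shift

section Shriek

variable (Λ : Type (u + 1)) [CommRing Λ] {U X : Scheme.{u}} (j : U ⟶ X) [Etale j] [EtShriek.JCont j]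

/-- extension by zero commutes with forgetting the module structure -/
def extZeroForgetIso : F₀ Λ U ⋙ EtShriek.extZero j ≅ EtDl.extZeroMod Λ j ⋙ F₀ Λ X :=
  haveI : ∀ M : EtModW.Mod Λ U, IsIso (ModCstAcyc.pullCmp (J := U.smallEtaleTopology) (K := X.smallEtaleTopology) Λ (EtShriek.compEtale j) M) :=
    fun M => ModCstAcyc.isIso_pullCmp Λ (EtShriek.compEtale j) M
  NatIso.ofComponents
    (fun M => asIso (ModCstAcyc.pullCmp (J := U.smallEtaleTopology) (K := X.smallEtaleTopology) Λ (EtShriek.compEtale j) M))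
    (fun a => ModCstAcyc.pullCmp_natural Λ (EtShriek.compEtale j) a)

/-- extension by zero of sheaves of modules is left exact -/
theorem extZeroMod_preservesFiniteLimits : PreservesFiniteLimits (EtDl.extZeroMod Λ j) := by
  haveI := EtShriekStalk.preservesFiniteLimits j
  obtain ⟨_, _, _, _⟩ := forget_exact Λ U
  obtain ⟨_, _, _, _⟩ := forget_exact Λ X
  haveI : PreservesFiniteLimits (EtDl.extZeroMod Λ j ⋙ F₀ Λ X) :=
    preservesFiniteLimits_of_natIso (extZeroForgetIso Λ j)
  exact preservesFiniteLimits_of_reflects_of_preserves _ (F₀ Λ X)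

theorem isTorsion_forget (n : ℕ) (hn : 0 < n) (hΛ : (n : Λ) = 0) (M : EtModW.Mod Λ X) :
    EtCoh.IsTorsion ((F₀ Λ X).obj M) := by
  intro W s x
  refine ⟨W, 𝟙 W, ⟨x, rfl⟩, isOfFinAddOrder_iff_nsmul_eq_zero.2 ⟨n, hn, ?_⟩⟩
  have key : ∀ y : (M.obj.obj (op W) : Type (u + 1)), n • y = 0 := fun y => by
    rw [← Nat.cast_smul_eq_nsmul Λ, hΛ, zero_smul]
  exact key _

end Shriek

/-- **amplitude of `R f_!`** -/
theorem isLE_RshriekPlus (Λ : Type (u + 1)) [CommRing Λ] {X S : Scheme.{u}} {f : X ⟶ S}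
    (c : DEt.Compactification f) (d : ℕ) (hdim : ∀ s : S, topologicalKrullDim ↥(f.fiber s) ≤ d)
    (n : ℕ) (hn : 0 < n) (hΛ : (n : Λ) = 0)
    (K : DerivedCategory.Plus (EtModW.Mod Λ X)) (b : ℤ) (hK : K.IsLE b) :
    ((EtDl.RshriekPlus Λ c).obj K).IsLE (b + 2 * (d : ℤ)) := by
  haveI := hK
  haveI := c.isOpenImmersion
  haveI := c.isProper
  haveI := extZeroMod_preservesFiniteLimits Λ c.j
  haveI : PreservesFiniteColimits (EtDl.extZeroMod Λ c.j) :=
    haveI : (EtDl.extZeroMod Λ c.j).IsLeftAdjoint := (EtDl.extZeroModAdj Λ c.j).isLeftAdjoint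
    inferInstance
  obtain ⟨_, _, _, _⟩ := forget_exact Λ X
  obtain ⟨_, _, _, _⟩ := forget_exact Λ c.Xbar
  obtain ⟨_, _, _, _⟩ := forget_exact Λ S
  haveI : PreservesFiniteLimits (EtCoh.push c.fbar) :=
    haveI : (EtCoh.push c.fbar).IsRightAdjoint := (EtCoh.pullPushAdj c.fbar).isRightAdjoint
    inferInstance
  obtain ⟨L₀, J₀, s, hs, ⟨e⟩⟩ := DerPlusBC.exists_model (F := EtDl.extZeroMod Λ c.j)
    (L := 𝟭 (EtModW.Mod Λ X)) (R := 𝟭 (EtModW.Mod Λ X)) Adjunction.id K
  haveI := hs
  let I := (InjectiveObject.ι (EtModW.Mod Λ X)).mapCochainComplexPlus.obj L₀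
  let J := (InjectiveObject.ι (EtModW.Mod Λ c.Xbar)).mapCochainComplexPlus.obj J₀
  let jI := (EtDl.extZeroMod Λ c.j).mapCochainComplexPlus.obj I
  let t : jI ⟶ J := ObjectProperty.homMk s
  haveI : IsIso (DerivedCategory.Plus.Qh.map ((HomotopyCategory.Plus.quotient _).map t)) :=
    (DerPlus.isIso_Qh_map_plus_iff t).2 hs
  haveI : IsIso ((EtModW.push Λ c.fbar).rightDerivedFunctorPlusUnit.app
      ((HomotopyCategory.Plus.quotient _).obj J)) := inferInstance
  let pJ := (EtModW.push Λ c.fbar).mapCochainComplexPlus.obj J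
  let e' : (EtDl.RshriekPlus Λ c).obj K ≅ DerivedCategory.Plus.Qh.obj ((HomotopyCategory.Plus.quotient _).obj pJ) :=
    (EtDl.RshriekPlus Λ c).mapIso e ≪≫
      (EtDl.pushPlus Λ c.fbar).mapIso
        ((DerPlusBC.fac (EtDl.extZeroMod Λ c.j)).app ((HomotopyCategory.Plus.quotient _).obj I) ≪≫
          asIso (DerivedCategory.Plus.Qh.map ((HomotopyCategory.Plus.quotient _).map t))) ≪≫
      (asIso ((EtModW.push Λ c.fbar).rightDerivedFunctorPlusUnit.app
        ((HomotopyCategory.Plus.quotient _).obj J))).symm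
  obtain ⟨a, ha⟩ := J.property
  haveI := ha
  let Ja := ((F₀ Λ c.Xbar).mapHomologicalComplex (ComplexShape.up ℤ)).obj J.obj
  haveI : ∀ m, IsIso (HomologicalComplex.homologyMap s m) := fun m =>
    (quasiIsoAt_iff_isIso_homologyMap s m).1 (hs.quasiIsoAt m)
  let hH : ∀ m, Ja.homology m ≅ (EtShriek.extZero c.j).obj
      ((F₀ Λ X).obj ((DerivedCategory.Plus.homologyFunctor _ m).obj K)) := fun m =>
    (J.obj.sc m).mapHomologyIso (F₀ Λ c.Xbar) ≪≫
    (F₀ Λ c.Xbar).mapIso ((asIso (HomologicalComplex.homologyMap s m)).symm ≪≫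
      (I.obj.sc m).mapHomologyIso (EtDl.extZeroMod Λ c.j) ≪≫
      (EtDl.extZeroMod Λ c.j).mapIso ((DerivedCategory.Plus.homologyFunctor _ m).mapIso e ≪≫
        (DerivedCategory.homologyFunctor _ m).mapIso
          ((DerivedCategory.quotientCompQhIso (EtModW.Mod Λ X)).app I.obj) ≪≫
        (DerivedCategory.homologyFunctorFactors _ m).app I.obj).symm) ≪≫
    ((extZeroForgetIso Λ c.j).app _).symm
  rw [← DerivedCategory.Plus.isLE_ι_obj_iff, DerivedCategory.isLE_iff]
  intro i hi
  have hex : (((EtCoh.push c.fbar).mapHomologicalComplex (ComplexShape.up ℤ)).obj Ja).ExactAt i := by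
    refine exactAt_map_acyclic (EtCoh.push c.fbar) Ja (2 * d + 1) a b ?_ ?_ ?_ (Nat.succ_pos _) i (by omega)
    · intro m p hp
      haveI : Injective (J.obj.X m) := (J₀.obj.X m).property
      exact isZero_Rpush_of_flq c.fbar _ (flq_injective (J.obj.X m)) p hp
    · intro m p hp
      refine (EtPBC.isZero_Rpush_extZero c.j c.fbar d ?_ _
        (isTorsion_forget Λ n hn hΛ _) p (by omega)).of_iso ((EtCoh.Rpush c.fbar p).mapIso (hH m))
      rw [c.fac]
      exact hdim
    · intro m hm
      exact (Functor.map_isZero _ (Functor.map_isZero _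
        (DerivedCategory.Plus.isZero_homology_of_isLE K b m hm))).of_iso (hH m)
  have hex' : pJ.obj.ExactAt i := by
    rw [HomologicalComplex.exactAt_iff, ← ShortComplex.exact_map_iff_of_faithful _ (F₀ Λ S)]
    exact hex
  exact (hex'.isZero_homology).of_iso ((DerivedCategory.homologyFunctor _ i).mapIso
    (DerivedCategory.Plus.ι.mapIso e' ≪≫ (DerivedCategory.quotientCompQhIso _).app pJ.obj) ≪≫
    (DerivedCategory.homologyFunctorFactors _ i).app pJ.obj)

end Groth.Agent.EtModAcyc
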