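import Groth.Agent.ModCstAcyc.Site
import Groth.Agent.GalNorm.Restr
import Groth.Prelude.Def_SixF2
import Groth.Agent.EtColimH.Acyclic
import Mathlib

/-!
Cohomology of étale sheaves of modules over a constant ring and of the underlying abelian sheaves.
-/

set_option autoImplicit false
set_option backward.isDefEq.respectTransparency false
set_option backward.isDefEq.respectTransparency.types false
set_option linter.style.haveILetI false
set_option linter.unusedSectionVars false

universe u

open CategoryTheory CategoryTheory.Limits CategoryTheory.Abelian AlgebraicGeometry Opposite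

noncomputable section

namespace Groth.Agent.EtModAcyc

attribute [local instance 100000] EtCoh.H._proof_1 EtMV.hext
attribute [local instance 200000] EtMV.hextAb

variable (Λ : Type (u + 1)) [CommRing Λ] {X : Scheme.{u}}

theorem torsionFree_const :
    ModSiteHom.TorsionFree ((constantSheaf X.smallEtaleTopology AddCommGrpCat.{u + 1}).obj
      (AddCommGrpCat.of (ULift.{u + 1} ℤ))) := by
  refine ModSiteHom.TorsionFree.map (presheafToSheaf X.smallEtaleTopology AddCommGrpCat.{u + 1}) ?_
  intro n hn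
  haveI : ∀ U, Mono ((n • 𝟙 ((Functor.const X.Etaleᵒᵖ).obj (AddCommGrpCat.of (ULift.{u + 1} ℤ)))).app U) := fun U => by
    rw [AddCommGrpCat.mono_iff_injective]
    intro a b hab
    change n • (show ULift.{u + 1} ℤ from a) = n • (show ULift.{u + 1} ℤ from b) at hab
    exact ULift.ext _ _ (nsmul_right_injective (M := ℤ) hn (congrArg ULift.down hab))
  exact NatTrans.mono_of_mono_app _

variable (X) in
/-- the forgetful functor is exact -/
abbrev F₀ : EtModW.Mod Λ X ⥤ EtCoh.Ab X := EtModD.forgetToAb Λ X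

/-- **injective sheaves of modules are acyclic for the underlying abelian cohomology** -/
theorem subsingleton_H_injective (I : EtModW.Mod Λ X) [Injective I] (n : ℕ) :
    Subsingleton (EtCoh.H X ((F₀ Λ X).obj I) (n + 1)) :=
  ModCstAcyc.subsingleton_ext I n _ torsionFree_const

section HMod

variable [PreservesFiniteLimits (EtModD.forgetToAb Λ X)] [PreservesFiniteColimits (EtModD.forgetToAb Λ X)]
  [(EtModD.forgetToAb Λ X).Additive]

theorem HModToH_apply (F : EtModW.Mod Λ X) (n : ℕ) (x : Ext.{u + 1} (EtSix.constΛ Λ X) F n) :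
    EtSix.HModToH Λ F n x = (Ext.mk₀ (EtSix.intToConstΛ Λ X)).comp (x.mapExactFunctor (F₀ Λ X)) (zero_add n) := rfl

theorem bijective_zero (F : EtModW.Mod Λ X) : Function.Bijective (EtSix.HModToH Λ F 0) := by
  let ψ : (EtSix.constΛ Λ X ⟶ F) → ((constantSheaf X.smallEtaleTopology AddCommGrpCat.{u + 1}).obj
      (AddCommGrpCat.of (ULift.{u + 1} ℤ)) ⟶ (F₀ Λ X).obj F) := fun φ => EtSix.intToConstΛ Λ X ≫ (F₀ Λ X).map φ
  let a : (EtSix.constΛ Λ X ⟶ F) ≃ (F.obj.obj (op (EtCoh.top X)) : Type (u + 1)) :=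
    ((EtSix.constModAdj Λ X).homEquiv _ _).trans
      (ModuleCat.homEquiv.trans (LinearMap.ringLmapEquivSelf Λ Λ _).toEquiv)
  let b : ((constantSheaf X.smallEtaleTopology AddCommGrpCat.{u + 1}).obj
      (AddCommGrpCat.of (ULift.{u + 1} ℤ)) ⟶ (F₀ Λ X).obj F) ≃ (F.obj.obj (op (EtCoh.top X)) : Type (u + 1)) :=
    ((EtCore.constAdj X).homEquiv _ _).trans
      { toFun := fun f => f.hom ⟨1⟩
        invFun := fun s => AddCommGrpCat.ofHom
          ((zmultiplesHom (((F₀ Λ X).obj F).obj.obj (op (EtCoh.top X)) : Type (u + 1)) s).comp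
            (AddEquiv.ulift (α := ℤ)).toAddMonoidHom)
        left_inv := fun f => by
          refine AddCommGrpCat.hom_ext (AddMonoidHom.ext fun m => ?_)
          obtain ⟨m⟩ := m
          change m • f.hom ⟨1⟩ = f.hom ⟨m⟩
          rw [← map_zsmul]
          exact congrArg f.hom (ULift.ext _ _ (by simp))
        right_inv := fun s => one_zsmul s }
  have hab : ∀ φ, b (ψ φ) = a φ := fun φ => by
    change ((EtCore.constAdj X).homEquiv _ _ (ψ φ)).hom ⟨1⟩ = ((EtSix.constModAdj Λ X).homEquiv _ _ φ).hom (1 : Λ)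
    rw [Adjunction.homEquiv_naturality_right, EtSix.intToConstΛ, Equiv.apply_symm_apply]
    change ((EtSix.gsecMod Λ X).map φ).hom ((1 : ℤ) • _) = _
    rw [one_zsmul, Adjunction.homEquiv_unit]
    rfl
  have hψ : Function.Bijective ψ := by
    have : ψ = b.symm ∘ a := funext fun φ => by rw [Function.comp_apply, ← hab φ, b.symm_apply_apply]
    rw [this]
    exact b.symm.bijective.comp a.bijective
  have e : ∀ φ, EtSix.HModToH Λ F 0 (Ext.mk₀ φ) = Ext.mk₀ (ψ φ) := fun φ => by
    rw [HModToH_apply, Ext.mapExactFunctor_mk₀, Ext.mk₀_comp_mk₀]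
  constructor
  · intro x y hxy
    obtain ⟨φ, rfl⟩ := (Ext.mk₀_bijective _ _).2 x
    obtain ⟨φ', rfl⟩ := (Ext.mk₀_bijective _ _).2 y
    rw [e, e] at hxy
    rw [hψ.1 ((Ext.mk₀_bijective _ _).1 hxy)]
  · intro x
    obtain ⟨w, rfl⟩ := (Ext.mk₀_bijective _ _).2 x
    obtain ⟨φ, rfl⟩ := hψ.2 w
    exact ⟨Ext.mk₀ φ, e φ⟩

/-- **cohomology of modules agrees with cohomology of abelian sheaves** -/
theorem bijective_HModToH (F : EtModW.Mod Λ X) (n : ℕ) : Function.Bijective (EtSix.HModToH Λ F n) := by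
  induction n generalizing F with
  | zero => exact bijective_zero Λ F
  | succ n hn =>
    let I : InjectivePresentation F := Classical.arbitrary _
    let S := ShortComplex.mk _ _ (cokernel.condition I.f)
    have hS : S.ShortExact := { exact := ShortComplex.exact_cokernel I.f }
    let P := (constantSheaf X.smallEtaleTopology AddCommGrpCat.{u + 1}).obj (AddCommGrpCat.of (ULift.{u + 1} ℤ))
    have hS' := hS.map_of_exact (F₀ Λ X)
    haveI : Injective S.X₂ := I.injective
    haveI h2 : Subsingleton (Ext.{u + 1} P (S.map (F₀ Λ X)).X₂ (n + 1)) := subsingleton_H_injective Λ S.X₂ n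
    have hg : ∀ x : Ext.{u + 1} (EtSix.constΛ Λ X) S.X₂ n,
        EtSix.HModToH Λ S.X₃ n (x.comp (Ext.mk₀ S.g) (add_zero n)) =
          (EtSix.HModToH Λ S.X₂ n x).comp (Ext.mk₀ (S.map (F₀ Λ X)).g) (add_zero n) := fun x => by
      rw [HModToH_apply, HModToH_apply, Ext.mapExactFunctor_comp, Ext.mapExactFunctor_mk₀]
      exact (Ext.comp_assoc_of_third_deg_zero _ _ _ _).symm
    have hd : ∀ x : Ext.{u + 1} (EtSix.constΛ Λ X) S.X₃ n,
        EtSix.HModToH Λ S.X₁ (n + 1) (x.comp hS.extClass rfl) =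
          (EtSix.HModToH Λ S.X₃ n x).comp hS'.extClass rfl := fun x => by
      rw [HModToH_apply, HModToH_apply, Ext.mapExactFunctor_comp, Ext.mapExactFunctor_extClass]
      exact (Ext.comp_assoc _ _ _ (zero_add n) rfl (by omega)).symm
    exact AddMonoidHom.bijective_of_surjective_of_bijective_of_right_exact _ _ _ _
      (EtSix.HModToH Λ S.X₂ n) (EtSix.HModToH Λ S.X₃ n) (EtSix.HModToH Λ S.X₁ (n + 1))
      (AddMonoidHom.ext fun x => (hg x).symm) (AddMonoidHom.ext fun x => (hd x).symm)
      ((ShortComplex.ab_exact_iff_function_exact _).mp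
        (Ext.covariant_sequence_exact₃' (EtSix.constΛ Λ X) hS n (n + 1) rfl))
      ((ShortComplex.ab_exact_iff_function_exact _).mp
        (Ext.covariant_sequence_exact₃' P hS' n (n + 1) rfl))
      (hn _).surjective (hn _)
      (fun x₁ ↦ Ext.covariant_sequence_exact₁ _ hS x₁ (Ext.eq_zero_of_injective _) rfl)
      (fun y₁ ↦ Ext.covariant_sequence_exact₁ _ hS' y₁ (@Subsingleton.elim _ h2 _ _) rfl)

end HMod

end Groth.Agent.EtModAcyc
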