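import Groth.Agent.EtModAcyc.Main
import Groth.Agent.EtMV.Flasque
import Groth.Agent.BigSiteLib.AcyclicDerived
import Mathlib

/-!
Injective sheaves of modules are flasque as abelian sheaves, hence acyclic for direct images.
-/

set_option autoImplicit false
set_option backward.isDefEq.respectTransparency false
set_option backward.isDefEq.respectTransparency.types false
set_option linter.style.haveILetI false
set_option linter.unusedSectionVars false

universe u

open CategoryTheory CategoryTheory.Limits CategoryTheory.Abelian AlgebraicGeometry Opposite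

noncomputable section

namespace Groth.Agent.EtModAcyc

set_option linter.auxLemma false
attribute [local instance 100000] EtCoh.H._proof_1 EtMV.hext
attribute [local instance 200000] EtMV.hextAb

variable {Λ : Type (u + 1)} [CommRing Λ] {X Y : Scheme.{u}}

/-- injective sheaves of modules are flasque -/
theorem flq_injective (I : EtModW.Mod Λ X) [Injective I] : EtMV.Flq ((F₀ Λ X).obj I) := fun W q hq => by
  obtain ⟨n, rfl⟩ := Nat.exists_eq_succ_of_ne_zero hq.ne'
  exact ModCstAcyc.subsingleton_ext I n _ (ModCstAcyc.torsionFree_freeSheaf _)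

theorem flq_step (f : X ⟶ Y) (S : ShortComplex (EtCoh.Ab X)) (hS : S.ShortExact) (h2 : Injective S.X₂)
    (h1 : EtMV.Flq S.X₁) : Epi ((EtCoh.push f).map S.g) ∧ EtMV.Flq S.X₃ := by
  haveI := h2
  refine ⟨?_, fun W q hq => ?_⟩
  · have : Epi ((sheafToPresheaf _ _).map ((EtCoh.push f).map S.g)) := by
      rw [NatTrans.epi_iff_epi_app]
      rintro ⟨V⟩
      rw [AddCommGrpCat.epi_iff_surjective]
      exact EtMV.surjective_g hS ((EtCoh.bc f).obj V) (h1 _ 1 one_pos)
    exact (sheafToPresheaf _ _).epi_of_epi_map this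
  · obtain ⟨n, rfl⟩ := Nat.exists_eq_succ_of_ne_zero hq.ne'
    refine subsingleton_of_forall_eq 0 fun x => ?_
    obtain ⟨y, rfl⟩ := Ext.covariant_sequence_exact₃ ((EtMV.P X).obj W) hS x rfl
      ((h1 W (n + 1 + 1) (Nat.succ_pos _)).elim _ _)
    rw [Ext.eq_zero_of_injective y, Ext.zero_comp]

/-- **flasque sheaves are acyclic for direct images** -/
theorem isZero_Rpush_of_flq (f : X ⟶ Y) (F : EtCoh.Ab X) (hF : EtMV.Flq F) (i : ℕ) (hi : 0 < i) :
    IsZero ((EtCoh.Rpush f i).obj F) := by
  obtain ⟨n, rfl⟩ := Nat.exists_eq_succ_of_ne_zero hi.ne'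
  haveI : PreservesFiniteLimits (EtCoh.push f) :=
    haveI : (EtCoh.push f).IsRightAdjoint := (EtCoh.pullPushAdj f).isRightAdjoint
    inferInstance
  exact BigSiteLib.isZero_rightDerived_of_class (EtCoh.push f) EtMV.Flq
    (fun S hS h2 h1 => flq_step f S hS h2 h1) F hF n

end Groth.Agent.EtModAcyc
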